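import Cfsg.Agent.Lib.MinNormalNonabelian
import Cfsg.Agent.H395.Jordan

/-!
# Derangements and non-abelian minimal normal subgroups

`G` is a finite group acting on `Ω`, `N` a transitive normal subgroup of `G` which is a
non-abelian minimal normal subgroup, `T` one of its simple factors (`T ∈ minSet N`).

* `exists_mul` : `N = T C_N(T)`;
* `conj_eq_or_commute` : two conjugates of `T` are equal or commute;
* `der_of_orbit` : an element of `T` moving all points of one `T`-orbit is a derangement;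
* `exists_der` : `T` contains a derangement;
* `semiregular` : if `G` is primitive and no `t * c` with `t ∈ T` a derangement and
  `1 ≠ c ∈ C_N(T)` is a derangement (and such a `c` exists) then `T` is semiregular;
* `exists_two_primes` : `T` has elements of two different prime orders.
-/

set_option autoImplicit false

namespace Cfsg.Agent.H383.Derange

open Subgroup MulAction Cfsg.Agent.Lib.MinNormal Cfsg.Agent.Lib.MinNormalNonabelian

variable {G : Type*} [Group G]

/-- The hypothesis: `N` is the product of its (non-abelian simple) minimal normal subgroups. -/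
structure NA (N : Subgroup G) : Prop where
  ne : (minSet N).Nonempty
  ind : sSupIndep (minSet N)
  sup : sSup (minSet N) = N
  simple : ∀ T ∈ minSet N, IsSimpleGroup T
  centerless : ∀ T ∈ minSet N, ∀ z ∈ T, (∀ t ∈ T, Commute z t) → z = 1
  conj : ∀ S ∈ minSet N, ∀ T ∈ minSet N, ∃ g : G, T = S.map (MulAut.conj g).toMonoidHom

theorem NA.of_min [Finite G] (N : Subgroup G) [N.Normal]
    (hmin : ∀ M : Subgroup G, M.Normal → M ≤ N → M = ⊥ ∨ M = N)
    (hna : ¬ ∀ x ∈ N, ∀ y ∈ N, Commute x y) : NA N := by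
  obtain ⟨h1, h2, h3, h4, h5, h6⟩ := nonabelian_structure N hmin hna
  exact ⟨h1, h2, h3, h4, h5, h6⟩

variable {N T : Subgroup G}

theorem NA.commute (h : NA N) {S T : Subgroup G} (hS : S ∈ minSet N) (hT : T ∈ minSet N)
    (hne : S ≠ T) {x y : G} (hx : x ∈ S) (hy : y ∈ T) : Commute x y :=
  commute_of_mem (K := N) h.ind (fun _ hS => hS.2.2.1) (fun _ hS => hS.1) hS hT hne hx hy

/-- conjugation by `g` maps `T` to itself or to a subgroup commuting with `T`. -/
theorem NA.conj_eq_or_commute [N.Normal] (h : NA N) (hT : T ∈ minSet N) (g : G) :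
    (T.map (MulAut.conj g).toMonoidHom = T) ∨
      ∀ x ∈ T, ∀ y ∈ T, Commute (g * x * g⁻¹) y := by
  by_cases hg : T.map (MulAut.conj g).toMonoidHom = T
  · exact Or.inl hg
  · right
    intro x hx y hy
    have h1 := map_conj_mem_minSet hT g
    refine h.commute h1 hT hg ?_ hy
    exact Subgroup.mem_map.2 ⟨x, hx, by simp⟩

/-- `N = T C_N(T)`. -/
theorem NA.exists_mul (h : NA N) (hT : T ∈ minSet N) {n : G} (hn : n ∈ N) :
    ∃ t ∈ T, ∃ c ∈ N, (∀ u ∈ T, Commute c u) ∧ n = t * c := by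
  have h1 : sSup (minSet N) = T ⊔ sSup (minSet N \ {T}) := by
    rw [← sSup_insert, Set.insert_sdiff_singleton, Set.insert_eq_of_mem hT]
  have hTn : T ≤ normalizer ((sSup (minSet N \ {T}) : Subgroup G) : Set G) :=
    (hT.1).trans (le_normalizer_sSup fun U hU => hU.1.2.2.1)
  have hx' : n ∈ ((T ⊔ sSup (minSet N \ {T}) : Subgroup G) : Set G) := by
    rw [← h1, h.sup]; exact hn
  rw [coe_mul_of_left_le_normalizer_right _ _ hTn] at hx'
  obtain ⟨t, ht, c, hc, rfl⟩ := hx'
  have hcN : c ∈ N := by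
    have : sSup (minSet N \ {T}) ≤ N := sSup_le fun U hU => hU.1.1
    exact this hc
  refine ⟨t, ht, c, hcN, ?_, rfl⟩
  intro u hu
  have h2 : sSup (minSet N \ {T}) ≤ centralizer {u} := by
    refine sSup_le fun U hU y hy => ?_
    rw [mem_centralizer_singleton_iff]
    exact (h.commute hU.1 hT hU.2 hy hu).eq
  have h3 := h2 hc
  rw [mem_centralizer_singleton_iff] at h3
  exact h3

variable {Ω : Type*} [MulAction G Ω]

/-- an element of `T` moving all the points of one `T`-orbit is a derangement. -/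
theorem NA.der_of_orbit (h : NA N) (hT : T ∈ minSet N) (htr : ∀ a b : Ω, ∃ n ∈ N, n • a = b)
    {t : G} (ht : t ∈ T) (ω : Ω) (hω : ∀ s ∈ T, t • s • ω ≠ s • ω) (a : Ω) : t • a ≠ a := by
  obtain ⟨n, hn, rfl⟩ := htr ω a
  obtain ⟨s, hs, c, -, hc, rfl⟩ := h.exists_mul hT hn
  intro h1
  have h2 : t • s • ω = s • ω := by
    have hcs : s * c = c * s := (hc s hs).symm.eq
    have hct : t * c = c * t := (hc t ht).symm.eq
    have h3 : c • (t • s • ω) = c • (s • ω) := by
      rw [← mul_smul, ← mul_smul, ← hct, mul_assoc, ← hcs, mul_smul, h1, hcs, mul_smul]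
    exact (MulAction.injective c) h3
  exact hω s hs h2

/-- `T` contains a derangement. -/
theorem NA.exists_der [Finite G] [Finite Ω] [Nonempty Ω] [FaithfulSMul G Ω] (h : NA N)
    (hT : T ∈ minSet N) (htr : ∀ a b : Ω, ∃ n ∈ N, n • a = b) :
    ∃ t ∈ T, ∀ a : Ω, t • a ≠ a := by
  -- a point moved by `T`
  have hT1 : T ≠ ⊥ := hT.2.1
  obtain ⟨t, ht, ht1⟩ : ∃ t ∈ T, t ≠ 1 := by
    rw [Ne, Subgroup.eq_bot_iff_forall] at hT1
    push Not at hT1
    exact hT1
  obtain ⟨ω, hω⟩ : ∃ ω : Ω, t • ω ≠ ω := by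
    by_contra hcon
    push Not at hcon
    apply ht1
    apply FaithfulSMul.eq_of_smul_eq_smul (α := Ω)
    intro a
    rw [hcon a, one_smul]
  -- the orbit
  let O := MulAction.orbit T ω
  have h2 : 2 ≤ Nat.card O := by
    have : Nontrivial O := by
      refine ⟨⟨⟨ω, mem_orbit_self ω⟩, ⟨t • ω, ⟨⟨t, ht⟩, rfl⟩⟩, ?_⟩⟩
      intro he
      exact hω (congrArg Subtype.val he).symm
    exact Finite.one_lt_card
  obtain ⟨s, hs⟩ := Cfsg.Agent.H395.Jordan.exists_derangement (G := T) (X := O) inferInstance h2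
  refine ⟨s, s.2, ?_⟩
  apply h.der_of_orbit hT htr s.2 ω
  intro u hu he
  apply hs ⟨u • ω, ⟨⟨u, hu⟩, rfl⟩⟩
  apply Subtype.ext
  exact he

/-- In a primitive group, if the products `t * c` of derangements `t ∈ T` with non-trivial
elements `c` of `N` commuting with `T` have fixed points then `T` is semiregular. -/
theorem NA.semiregular [Finite G] [Finite Ω] [Nontrivial Ω] [FaithfulSMul G Ω]
    [IsPreprimitive G Ω] [N.Normal] (h : NA N)
    (hT : T ∈ minSet N) (htr : ∀ a b : Ω, ∃ n ∈ N, n • a = b)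
    (hC : ∃ c ∈ N, c ≠ 1 ∧ ∀ u ∈ T, Commute c u)
    (hder : ∀ t ∈ T, (∀ a : Ω, t • a ≠ a) → ∀ c ∈ N, c ≠ 1 → (∀ u ∈ T, Commute c u) →
      ∃ a : Ω, (t * c) • a = a) :
    ∀ s ∈ T, s ≠ 1 → ∀ a : Ω, s • a ≠ a := by
  obtain ⟨t, ht, htd⟩ := h.exists_der hT htr
  obtain ⟨c, hcN, hc1, hcT⟩ := hC
  obtain ⟨ω, hω⟩ := hder t ht htd c hcN hc1 hcT
  -- the centralizer of `T` in `N`
  let C : Subgroup G := centralizer (T : Set G) ⊓ N
  have hCmem : ∀ x, x ∈ C ↔ x ∈ N ∧ ∀ u ∈ T, Commute x u := by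
    intro x
    simp only [C, Subgroup.mem_inf, Subgroup.mem_centralizer_iff]
    constructor
    · rintro ⟨h1, h2⟩
      exact ⟨h2, fun u hu => (h1 u hu).symm⟩
    · rintro ⟨h1, h2⟩
      exact ⟨fun u hu => (h2 u hu).symm, h1⟩
  -- `N` normalises `T`
  have hNT : ∀ n ∈ N, ∀ x ∈ T, n * x * n⁻¹ ∈ T := by
    intro n hn x hx
    exact (mem_normalizer_iff.1 (hT.2.2.1 hn) x).1 hx
  have hNT' : ∀ n ∈ N, ∀ x ∈ T, n⁻¹ * x * n ∈ T := by
    intro n hn x hx
    have := hNT n⁻¹ (N.inv_mem hn) x hx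
    rwa [inv_inv] at this
  have hCn : ∀ n ∈ N, ∀ x ∈ C, n * x * n⁻¹ ∈ C := by
    intro n hn x hx
    rw [hCmem] at hx ⊢
    refine ⟨N.mul_mem (N.mul_mem hn hx.1) (N.inv_mem hn), fun u hu => ?_⟩
    have h1 := hx.2 _ (hNT' n hn u hu)
    have h2 := h1.map (MulAut.conj n)
    simpa [mul_assoc] using h2
  -- `W = N_ω C`
  let S : Subgroup G := stabilizer G ω
  let W : Set G := {x | ∃ a ∈ S, a ∈ N ∧ ∃ c ∈ C, x = a * c}
  let X : Subgroup G :=
    { carrier := {x | ∀ g ∈ S, g * x * g⁻¹ ∈ W}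
      one_mem' := by
        intro g hg
        exact ⟨1, S.one_mem, N.one_mem, 1, C.one_mem, by simp⟩
      mul_mem' := by
        intro x y hx hy g hg
        obtain ⟨a, ha, haN, c, hc, h1⟩ := hx g hg
        obtain ⟨b, hb, hbN, d, hd, h2⟩ := hy g hg
        refine ⟨a * b, S.mul_mem ha hb, N.mul_mem haN hbN, (b⁻¹ * c * b) * d,
          C.mul_mem ?_ hd, ?_⟩
        · have := hCn b⁻¹ (N.inv_mem hbN) c hc
          rwa [inv_inv] at this
        · have : g * (x * y) * g⁻¹ = (g * x * g⁻¹) * (g * y * g⁻¹) := by group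
          rw [this, h1, h2]
          group
      inv_mem' := by
        intro x hx g hg
        obtain ⟨a, ha, haN, c, hc, h1⟩ := hx g hg
        refine ⟨a⁻¹, S.inv_mem ha, N.inv_mem haN, a * c⁻¹ * a⁻¹, hCn a haN _ (C.inv_mem hc), ?_⟩
        have : g * x⁻¹ * g⁻¹ = (g * x * g⁻¹)⁻¹ := by group
        rw [this, h1]
        group }
  have hXmem : ∀ x, x ∈ X ↔ ∀ g ∈ S, g * x * g⁻¹ ∈ W := fun x => Iff.rfl
  have hXS : ∀ g ∈ S, ∀ x ∈ X, g * x * g⁻¹ ∈ X := by
    intro g hg x hx k hk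
    have := hx (k * g) (S.mul_mem hk hg)
    have h2 : k * (g * x * g⁻¹) * k⁻¹ = (k * g) * x * (k * g)⁻¹ := by group
    rw [h2]; exact this
  have hXW : ∀ x ∈ X, x ∈ W := by
    intro x hx
    have := hx 1 S.one_mem
    simpa using this
  -- `S` is maximal
  have hmax : IsCoatom S := (isCoatom_stabilizer_iff_preprimitive G ω).2 inferInstance
  have hSXmem : ∀ x, x ∈ S ⊔ X → ∃ a ∈ S, ∃ y ∈ X, x = a * y := by
    have hle : S ≤ normalizer (X : Set G) := by
      intro g hg
      rw [mem_normalizer_iff]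
      intro x
      constructor
      · exact hXS g hg x
      · intro hx
        have := hXS g⁻¹ (S.inv_mem hg) _ hx
        have h2 : g⁻¹ * (g * x * g⁻¹) * g⁻¹⁻¹ = x := by group
        rwa [h2] at this
    intro x hx
    have hx' : x ∈ ((S ⊔ X : Subgroup G) : Set G) := hx
    rw [coe_mul_of_left_le_normalizer_right _ _ hle] at hx'
    obtain ⟨a, ha, y, hy, rfl⟩ := hx'
    exact ⟨a, ha, y, hy, rfl⟩
  rcases hmax.le_iff.1 (le_sup_left : S ≤ S ⊔ X) with htop | heq
  · -- `N = N_ω C`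
    have hNW : ∀ n ∈ N, n ∈ W := by
      intro n hn
      obtain ⟨a, ha, y, hy, rfl⟩ := hSXmem n (by rw [htop]; exact mem_top n)
      obtain ⟨b, hb, hbN, d, hd, rfl⟩ := hXW y hy
      have haN : a ∈ N := by
        have h1 : a * (b * d) * (b * d)⁻¹ ∈ N :=
          N.mul_mem hn (N.inv_mem (N.mul_mem hbN ((hCmem d).1 hd).1))
        rwa [mul_inv_cancel_right] at h1
      exact ⟨a * b, S.mul_mem ha hb, N.mul_mem haN hbN, d, hd, by group⟩
    -- `T ∩ S` is normalised by `N`
    have hTS : N ≤ normalizer ((T ⊓ S : Subgroup G) : Set G) := by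
      rw [le_normalizer_iff]
      intro n hn x hx
      obtain ⟨a, ha, haN, d, hd, rfl⟩ := hNW n hn
      have hxd : d * x * d⁻¹ = x := by
        have := (((hCmem d).1 hd).2 x hx.1).eq
        rw [this]; group
      have h1 : a * d * x * (a * d)⁻¹ = a * x * a⁻¹ := by
        calc a * d * x * (a * d)⁻¹ = a * (d * x * d⁻¹) * a⁻¹ := by group
          _ = a * x * a⁻¹ := by rw [hxd]
      rw [h1]
      exact ⟨hNT a haN x hx.1, S.mul_mem (S.mul_mem ha hx.2) (S.inv_mem ha)⟩
    rcases hT.2.2.2 (T ⊓ S) inf_le_left hTS with hbot | hall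
    · intro s hs hs1 a ha
      obtain ⟨n, hn, rfl⟩ := htr ω a
      apply hs1
      have h1 : n⁻¹ * s * n ∈ T ⊓ S := by
        refine ⟨hNT' n hn s hs, ?_⟩
        show (n⁻¹ * s * n) • ω = ω
        rw [mul_smul, mul_smul, ha, inv_smul_smul]
      rw [hbot, Subgroup.mem_bot] at h1
      have h2 : s = n * (n⁻¹ * s * n) * n⁻¹ := by group
      rw [h2, h1]; group
    · exfalso
      have h1 : t ∈ T ⊓ S := by rw [hall]; exact ht
      exact htd ω h1.2
  · -- `X ≤ S`
    exfalso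
    have hXS' : X ≤ S := by
      have : X ≤ S ⊔ X := le_sup_right
      rwa [heq] at this
    have htX : t ∈ X := by
      intro g hg
      have htc : g * (t * c) * g⁻¹ ∈ S :=
        S.mul_mem (S.mul_mem hg hω) (S.inv_mem hg)
      have htcN : g * (t * c) * g⁻¹ ∈ N :=
        (inferInstance : N.Normal).conj_mem _ (N.mul_mem (hT.1 ht) hcN) g
      rcases h.conj_eq_or_commute hT g with hgT | hgT
      · refine ⟨g * (t * c) * g⁻¹, htc, htcN, g * c⁻¹ * g⁻¹, ?_, by group⟩
        rw [hCmem]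
        refine ⟨(inferInstance : N.Normal).conj_mem _ (N.inv_mem hcN) g, fun u hu => ?_⟩
        rw [← hgT] at hu
        obtain ⟨v, hv, rfl⟩ := Subgroup.mem_map.1 hu
        have h2 := ((hcT v hv).inv_left).map (MulAut.conj g)
        simpa using h2
      · refine ⟨1, S.one_mem, N.one_mem, g * t * g⁻¹, ?_, by group⟩
        rw [hCmem]
        exact ⟨(inferInstance : N.Normal).conj_mem _ (hT.1 ht) g, fun u hu => hgT t ht u hu⟩
    exact htd ω (hXS' htX)

/-- A non-abelian simple group has elements of two different prime orders. -/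
theorem NA.exists_two_primes [Finite G] (h : NA N) (hT : T ∈ minSet N) :
    ∃ x ∈ T, ∃ y ∈ T, ∃ p q : ℕ, p.Prime ∧ q.Prime ∧ p ≠ q ∧ orderOf x = p ∧ orderOf y = q := by
  have hT1 : T ≠ ⊥ := hT.2.1
  have hcard : Nat.card T ≠ 1 := fun h => hT1 (Subgroup.card_eq_one.mp h)
  obtain ⟨p, hp, hpd⟩ := Nat.exists_prime_and_dvd hcard
  have : Fact p.Prime := ⟨hp⟩
  obtain ⟨x, hx⟩ := exists_prime_orderOf_dvd_card' p hpd
  obtain ⟨q, hq, hqd, hpq⟩ : ∃ q : ℕ, q.Prime ∧ q ∣ Nat.card T ∧ p ≠ q := by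
    by_contra hcon
    push Not at hcon
    have hP : IsPGroup p T := by
      rw [IsPGroup.iff_card]
      have h1 := Nat.eq_prime_pow_of_unique_prime_dvd (Nat.card_pos (α := T)).ne'
        (fun {d} hd hd' => (hcon d hd hd').symm)
      exact ⟨_, h1⟩
    have hnt : Nontrivial T := (Subgroup.nontrivial_iff_ne_bot T).2 hT1
    have h2 := hP.center_nontrivial
    obtain ⟨z, hz⟩ := exists_ne (1 : center T)
    apply hz
    apply Subtype.ext
    apply Subtype.ext
    apply h.centerless T hT z.1.1 z.1.2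
    intro t ht
    have := Subgroup.mem_center_iff.1 z.2 ⟨t, ht⟩
    exact (congrArg Subtype.val this).symm
  have : Fact q.Prime := ⟨hq⟩
  obtain ⟨y, hy⟩ := exists_prime_orderOf_dvd_card' q hqd
  refine ⟨x, x.2, y, y.2, p, q, hp, hq, hpq, ?_, ?_⟩
  · rw [← hx, Subgroup.orderOf_coe]
  · rw [← hy, Subgroup.orderOf_coe]

end Cfsg.Agent.H383.Derange
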