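import Cfsg.Agent.H383.Tri
import Cfsg.Agent.H126.Tri.SL
import Cfsg.Agent.H212.TriSU.RowTri
import Cfsg.Agent.H896.Tri3.Rows
import Cfsg.Agent.H347.Tri.RowsA
import Cfsg.Agent.H347.Tri.RowsC
import Cfsg.Agent.H347.Tri.RowsD
import Cfsg.Agent.H305.TriSuz
import Cfsg.Agent.H305.TriSzRee
import Cfsg.Agent.OddHalf.Known
import Cfsg.Prelude.Def_LieTypeChar

/-!
# `Tri` for the known simple groups which are not sporadic (helper383, S4335)

* `tri_lie` : the simple groups of Lie type;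
* `tri_known` : the alternating groups, the groups of Lie type and the Tits group; `TriH` for the sporadic groups is an
  input.
-/

set_option autoImplicit false
set_option linter.style.haveILetI false

namespace Cfsg.Agent.H383.TriRow

open Cfsg Cfsg.Agent.H630.NH Cfsg.Agent.H165.TriRow

universe u

/-- The weak form (the conclusion of `Cfsg.Agent.H165.Wiel.SimpleTri` for one group). -/
def TriH (X : Type u) [Group X] : Prop :=
  ∀ r q₁ q₂ : ℕ, r.Prime → q₁.Prime → q₂.Prime → r ≠ 2 → q₁ ≠ 2 → q₂ ≠ 2 → r ≠ q₁ → r ≠ q₂ → q₁ ≠ q₂ →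
    r ∣ Nat.card X → q₁ ∣ Nat.card X → q₂ ∣ Nat.card X → Cond {r, q₁} X → Cond {r, q₂} X →
    (∃ (x : X) (K : Subgroup X), orderOf x = r ∧ (∀ k ∈ K, k * x = x * k) ∧
      (∀ s : ℕ, s.Prime → s ∣ Nat.card K → s = q₁ ∨ s = q₂) ∧ ¬ q₁ ∣ K.index ∧ ¬ q₂ ∣ K.index) →
    Cond {q₁, q₂} X

theorem TriH.of_tri {X : Type u} [Group X] (h : Tri X) : TriH X :=
  fun r q₁ q₂ a b c d e f g i j k l m n o _ => h r q₁ q₂ a b c d e f g i j k l m n o

/-- The quotient by the center. -/
theorem crossTri_mk {r : ℕ} {G : Type u} [Group G] [Finite G] (h : CrossTri r G) :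
    CrossTri r (G ⧸ Subgroup.center G) := by
  refine CrossTri.quot (QuotientGroup.mk' (Subgroup.center G)) (QuotientGroup.mk'_surjective _) ?_ h
  rw [QuotientGroup.ker_mk']

/-- **`Tri` for the simple groups of Lie type.** -/
theorem tri_lie {r : ℕ} (hr : r.Prime) {X : Type u} [Group X] [Finite X] [IsSimpleGroup X]
    (hX : IsLieTypeChar r X) : Tri X := by
  haveI : Fact r.Prime := ⟨hr⟩
  have hX' := hX
  have key : ∀ {M : Type} [Group M], Nonempty (X ≃* M) → CrossTri r M → Tri X := fun ⟨e⟩ h =>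
    tri_of_lie hr hX' (h.congr e.symm)
  rcases hX with h | h | h | h | h | h | h | h | ⟨-, h⟩ | ⟨-, h⟩ | ⟨-, h⟩
  · obtain ⟨F, _, _, _, n, hn, -, e⟩ := h
    exact key e (crossTri_mk (H126.TriSL.crossTri_SL r F n hn))
  · obtain ⟨F, _, _, _, m, hm, -, e⟩ := h
    exact key e (crossTri_mk (H896.Tri3.crossTri_Sp r F m))
  · obtain ⟨F, _, _, _, n, q, hF, hn, -, e⟩ := h
    exact key e (crossTri_mk (H212.TriSU.crossTri_SU r F n q hF))
  · obtain ⟨F, _, _, _, m, hm, hF, e⟩ := h
    exact key e (H896.Tri3.crossTri_POmegaOdd r F m (by omega) hF)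
  · obtain ⟨F, _, _, _, m, hm, e⟩ := h
    exact key e (H896.Tri3.crossTri_POmegaPlus r F m (by omega))
  · obtain ⟨F, _, _, _, m, a, b, hm, hab, e⟩ := h
    exact key e (H896.Tri3.crossTri_POmegaMinus r F m a b (by omega) hab)
  · obtain ⟨F, _, _, _, h⟩ := h
    rcases h with ⟨-, e⟩ | e | e | e | e
    · exact key e (H347.Tri.crossTri_G2 r F)
    · exact key e (H347.Tri.crossTri_F4 r F)
    · exact key e (H347.Tri.crossTri_E6 r F)
    · exact key e (H347.Tri.crossTri_E7 r F)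
    · exact key e (H347.Tri.crossTri_E8 r F)
  · obtain ⟨K, _, _, _, q, hq, h⟩ := h
    rcases h with ⟨hK, e⟩ | ⟨hK, e⟩
    · exact key e (H347.Tri.crossTri_twE6 r K hq hK)
    · exact key e (H347.Tri.crossTri_twD4 r K hq hK)
  · exact H305.TriSzRee.tri_suzuki h
  · exact H305.TriSuz.tri_2F4 h
  · exact H305.TriSzRee.tri_ree h

/-- **`TriH` for the known simple groups** (the sporadic groups as an input). -/
theorem triH_known (hsp : ∀ (X : Type u) [Group X] [Finite X] [IsSimpleGroup X], IsSporadicGroup X → TriH X)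
    {X : Type u} [Group X] [Finite X] [IsSimpleGroup X] (hX : ¬ IsMulCommutative X) (h : IsKnownSimple' X) : TriH X := by
  rcases Cfsg.Agent.OddHalf.Known.classify hX h with h | ⟨p, hp, -, h⟩ | (h | h) | h
  · exact TriH.of_tri (tri_isAlternating h)
  · exact TriH.of_tri (tri_lie hp h)
  · exact TriH.of_tri (tri_lie Nat.prime_two h)
  · exact TriH.of_tri (H305.TriSuz.tri_tits h)
  · exact hsp X h

end Cfsg.Agent.H383.TriRow
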